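import Mathlib
import Cfsg.Prelude.Def_Characters
import Cfsg.Agent.Lib.helper7.BR.Defs
import Cfsg.Agent.Lib.Helper29.LeoOrbit

/-!
# Project O4320 (S0977, 3u): no simple group of order `4320 = 2^5 * 3^3 * 5`

Leader: helper10.  See `PLAN.md` and `Skel.lean.txt` in this folder.
The only definition is the instance `Fact (Nat.Prime 5)` (Mathlib has `Nat.fact_prime_two`, `Nat.fact_prime_three` only); `nrm P = N_G(P)`, `cen P = C_G(P)` are those of project BR
(`Cfsg.Agent.Lib.helper7.BR.Defs`), `leoDeg χ : ℕ` (the degree, `leoDeg_spec : χ 1 = leoDeg χ`) is that of `Helper29.LeoOrbit`,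
`trivIrr G` that of `Helper25.CharLinear`.
-/

set_option autoImplicit false

namespace Cfsg.Agent.Lib.Helper10.O4320

/-- `5` is prime (instance used by all pieces). -/
instance o4320_fact5 : Fact (Nat.Prime 5) := ⟨by norm_num⟩

end Cfsg.Agent.Lib.Helper10.O4320
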